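import Mathlib

/-!
# Computed facts about the group `Z₂ × S₄`
-/

set_option autoImplicit false
set_option synthInstance.maxHeartbeats 400000
set_option synthInstance.maxSize 2000
set_option maxRecDepth 100000

namespace Cfsg.Agent.Lib.Helper5.Z2S4

/-- the model group `Z₂ × S₄` -/
abbrev M : Type := Multiplicative (ZMod 2) × Equiv.Perm (Fin 4)

/-- the central involution -/
def c : M := (Multiplicative.ofAdd 1, 1)
/-- a transposition -/
def a0 : M := (1, Equiv.swap 0 1)
/-- the central double transposition of the Sylow subgroup -/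
def u0 : M := (1, Equiv.swap 0 1 * Equiv.swap 2 3)
/-- a non-central double transposition -/
def b0 : M := (1, Equiv.swap 0 2 * Equiv.swap 1 3)
/-- an element of order three -/
def r0 : M := (1, Equiv.swap 0 1 * Equiv.swap 1 2)

/-- membership in the Sylow 2-subgroup `C_M(u0)` -/
def inT0 (x : M) : Prop := x * u0 = u0 * x

instance : DecidablePred inT0 := fun x => by unfold inT0; infer_instance

theorem c_mul_c : c * c = 1 := by decide +kernel
theorem c_ne_one : c ≠ 1 := by decide +kernel
theorem c_central : ∀ y : M, y * c = c * y := by decide +kernel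

theorem center_M : ∀ x : M, (∀ y : M, y * x = x * y) → x = 1 ∨ x = c := by decide +kernel

theorem card_T0 : (Finset.univ.filter inT0).card = 16 := by decide +kernel

theorem comm_T0 : ∀ x y : M, inT0 x → inT0 y →
    x * y * x⁻¹ * y⁻¹ = 1 ∨ x * y * x⁻¹ * y⁻¹ = u0 := by decide +kernel

theorem comm_a0_b0 : a0 * b0 * a0⁻¹ * b0⁻¹ = u0 := by decide +kernel
theorem inT0_a0 : inT0 a0 := by decide +kernel
theorem inT0_b0 : inT0 b0 := by decide +kernel
theorem inT0_c : inT0 c := by decide +kernel
theorem inT0_u0 : inT0 u0 := by decide +kernel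

theorem u0_mul_u0 : u0 * u0 = 1 := by decide +kernel
theorem u0_ne_one : u0 ≠ 1 := by decide +kernel
theorem a0_mul_a0 : a0 * a0 = 1 := by decide +kernel
theorem b0_mul_b0 : b0 * b0 = 1 := by decide +kernel

/-- the types of involutions of the Sylow subgroup -/
theorem invol_types : ∀ x : M, inT0 x → x * x = 1 → x ≠ 1 → x ≠ c →
    (∃ k : M, k * x * k⁻¹ = u0) ∨ (∃ k : M, k * x * k⁻¹ = c * u0) ∨
    (∃ k : M, k * x * k⁻¹ = a0) ∨ (∃ k : M, k * x * k⁻¹ = c * a0) := by decide +kernel

theorem conj_u0_b0 : ∃ k : M, k * u0 * k⁻¹ = b0 := by decide +kernel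
theorem conj_u0_ub0 : ∃ k : M, k * u0 * k⁻¹ = u0 * b0 := by decide +kernel
theorem u0_b0_comm : u0 * b0 = b0 * u0 := by decide +kernel

/-- the normal closure of a non-identity element contains an involution -/
theorem invol_in_normal_closure : ∀ x : M, x ≠ 1 →
    (∃ n : Fin 6, x ^ (n : ℕ) ≠ 1 ∧ x ^ (n : ℕ) * x ^ (n : ℕ) = 1) ∨
    (∃ k : M, x * (k * x * k⁻¹) ≠ 1 ∧ (x * (k * x * k⁻¹)) * (x * (k * x * k⁻¹)) = 1) := by
  decide +kernel

/-! ### more facts used in the fusion analysis -/

theorem invol_conj_into_T0 : ∀ x : M, x * x = 1 → ∃ k : M, inT0 (k * x * k⁻¹) := by decide +kernel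

theorem central_invol_T0 : ∀ n : M, inT0 n → n * n = 1 → (∀ y : M, inT0 y → y * n = n * y) →
    n = 1 ∨ n = c ∨ n = u0 ∨ n = c * u0 := by decide +kernel

theorem noncentral_invol_T0 : ∀ n : M, inT0 n → n * n = 1 → (∃ y : M, inT0 y ∧ y * n ≠ n * y) →
    ∃ k : M, k * n * k⁻¹ = n * u0 := by decide +kernel

theorem cent_a0 : ∀ x : M, x * a0 = a0 * x →
    x = 1 ∨ x = c ∨ x = a0 ∨ x = c * a0 ∨ x = u0 ∨ x = c * u0 ∨ x = a0 * u0 ∨
      x = c * a0 * u0 := by decide +kernel

theorem conj_b0_cau : b0 * (c * a0 * u0) * b0⁻¹ = c * a0 := by decide +kernel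
theorem conj_b0_a0 : b0 * a0 * b0⁻¹ = a0 * u0 := by decide +kernel
theorem u0_ne_c : u0 ≠ c := by decide +kernel
theorem a0_ne_c : a0 ≠ c := by decide +kernel
theorem a0_ne_one : a0 ≠ 1 := by decide +kernel
theorem a0_b0_ne : a0 * b0 ≠ b0 * a0 := by decide +kernel
theorem a0_mul_a0u0 : a0 * (a0 * u0) = u0 := by decide +kernel
theorem r0_cube : r0 * r0 * r0 = 1 := by decide +kernel
theorem r0_ne_one : r0 ≠ 1 := by decide +kernel

/-- the sign as a map to `Z₂` -/
def sgn2 : Equiv.Perm (Fin 4) →* Multiplicative (ZMod 2) where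
  toFun σ := Multiplicative.ofAdd
    (((Finset.univ.filter (fun p : Fin 4 × Fin 4 => p.1 < p.2 ∧ σ p.2 < σ p.1)).card : ℕ) : ZMod 2)
  map_one' := by decide +kernel
  map_mul' := by decide +kernel

/-- the twisting automorphism of `Z₂ × S₄` -/
def twistHom : M →* M where
  toFun x := (x.1 * sgn2 x.2, x.2)
  map_one' := by decide +kernel
  map_mul' := by decide +kernel

theorem twist_twist : ∀ x : M, twistHom (twistHom x) = x := by decide +kernel

/-- the twisting automorphism as an equivalence -/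
def twist : M ≃* M where
  toFun := twistHom
  invFun := twistHom
  left_inv := twist_twist
  right_inv := twist_twist
  map_mul' := twistHom.map_mul

theorem twist_inT0 : ∀ x : M, inT0 (twist x) ↔ inT0 x := by decide +kernel
theorem twist_a0 : twist a0 = c * a0 := by decide +kernel
theorem twist_ca0 : twist (c * a0) = a0 := by decide +kernel

/-- membership in the index two subgroup used for the transfer -/
def inQ0 (x : M) : Prop := inT0 x ∧ (twistHom x).1 = 1

instance : DecidablePred inQ0 := fun x => by unfold inQ0; infer_instance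

theorem inQ0_one : inQ0 1 := by decide +kernel
theorem inQ0_mul : ∀ x y : M, inQ0 x → inQ0 y → inQ0 (x * y) := by decide +kernel
theorem inQ0_inv : ∀ x : M, inQ0 x → inQ0 x⁻¹ := by decide +kernel
theorem card_Q0 : (Finset.univ.filter inQ0).card = 8 := by decide +kernel
theorem c_not_inQ0 : ¬ inQ0 c := by decide +kernel

theorem inQ0_types : ∀ x : M, inQ0 x →
    x = 1 ∨ x * x ≠ 1 ∨ (∃ k : M, k * x * k⁻¹ = u0) ∨ x = c * a0 ∨ x = c * a0 * u0 := by decide +kernel

/-- the six transpositions -/
def tr : Fin 6 → M := ![(1, Equiv.swap 0 1), (1, Equiv.swap 0 2), (1, Equiv.swap 0 3),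
  (1, Equiv.swap 1 2), (1, Equiv.swap 1 3), (1, Equiv.swap 2 3)]

theorem tr_injective : Function.Injective tr := by decide +kernel
theorem tr_conj : ∀ i : Fin 6, ∃ k : M, k * a0 * k⁻¹ = tr i := by decide +kernel
theorem tr_ne_c : ∀ i : Fin 6, tr i ≠ c := by decide +kernel

/-- the central involution together with the six transpositions -/
def tr7 : Fin 7 → M := ![c, (1, Equiv.swap 0 1), (1, Equiv.swap 0 2), (1, Equiv.swap 0 3),
  (1, Equiv.swap 1 2), (1, Equiv.swap 1 3), (1, Equiv.swap 2 3)]

theorem tr7_injective : Function.Injective tr7 := by decide +kernel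
theorem tr7_conj : ∀ i : Fin 7, tr7 i = c ∨ ∃ k : M, k * a0 * k⁻¹ = tr7 i := by decide +kernel
theorem tr_zero : tr 0 = a0 := by decide +kernel
theorem tr_noncomm : tr 0 * tr 3 ≠ tr 3 * tr 0 := by decide +kernel

theorem card_sl32 : Nat.card (Matrix.SpecialLinearGroup (Fin 3) (ZMod 2)) = 168 := by
  rw [Nat.card_eq_fintype_card]
  decide +kernel

end Cfsg.Agent.Lib.Helper5.Z2S4
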