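import Mathlib
import Cfsg.Agent.Lib.Helper5.Z2S4.Model

/-!
# Groups with a 2-central involution whose centralizer is `Z₂ × S₄`: the normalised setup
-/

set_option autoImplicit false

namespace Cfsg.Agent.Lib.Helper5.Z2S4

open Subgroup

variable {G : Type*} [Group G]

/-- the Sylow subgroup of the model -/
def T0 : Subgroup M := centralizer {u0}

theorem mem_T0 {x : M} : x ∈ T0 ↔ inT0 x := mem_centralizer_singleton_iff

theorem card_M : Nat.card M = 48 := by
  rw [Nat.card_eq_fintype_card]
  decide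

theorem card_T0_sub : Nat.card T0 = 16 := by
  classical
  rw [← card_T0, ← Fintype.card_subtype, ← Nat.card_eq_fintype_card]
  exact Nat.card_congr (Equiv.subtypeEquivRight (fun x => mem_T0))

/-- conjugate elements have centralizers of the same order -/
theorem card_centralizer_conj (g x : G) :
    Nat.card (centralizer ({g * x * g⁻¹} : Set G)) = Nat.card (centralizer ({x} : Set G)) := by
  symm
  refine Nat.card_congr ⟨fun y => ⟨g * y * g⁻¹, ?_⟩, fun y => ⟨g⁻¹ * y * g, ?_⟩, ?_, ?_⟩
  · have hy := mem_centralizer_singleton_iff.mp y.2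
    rw [mem_centralizer_singleton_iff]
    calc g * y * g⁻¹ * (g * x * g⁻¹) = g * (y * x) * g⁻¹ := by group
      _ = g * (x * y) * g⁻¹ := by rw [hy]
      _ = g * x * g⁻¹ * (g * y * g⁻¹) := by group
  · have hy := mem_centralizer_singleton_iff.mp y.2
    rw [mem_centralizer_singleton_iff]
    calc g⁻¹ * y * g * x = g⁻¹ * (y * (g * x * g⁻¹)) * g := by group
      _ = g⁻¹ * (g * x * g⁻¹ * y) * g := by rw [hy]
      _ = x * (g⁻¹ * y * g) := by group
  · intro y
    apply Subtype.ext
    show g⁻¹ * (g * y * g⁻¹) * g = y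
    group
  · intro y
    apply Subtype.ext
    show g * (g⁻¹ * y * g) * g⁻¹ = y
    group

/-- the normalised setup -/
structure Setup (t : G) (T : Sylow 2 G) where
  e : ↥(centralizer ({t} : Set G)) ≃* M
  ht : orderOf t = 2
  hTle : (T : Subgroup G) ≤ centralizer ({t} : Set G)
  hT : ∀ x : ↥(centralizer ({t} : Set G)), (x : G) ∈ (T : Subgroup G) ↔ inT0 (e x)
  h2 : ∀ S : Sylow 2 G,
    centralizer ((⁅(S : Subgroup G), (S : Subgroup G)⁆ : Subgroup G) : Set G) = S

namespace Setup

variable {t : G} {T : Sylow 2 G} (s : Setup t T)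

/-- the embedding of the model -/
noncomputable def ι : M →* G := (centralizer ({t} : Set G)).subtype.comp s.e.symm.toMonoidHom

theorem ι_apply (x : M) : s.ι x = (s.e.symm x : G) := rfl

theorem ι_injective : Function.Injective s.ι := by
  intro x y h
  have : s.e.symm x = s.e.symm y := Subtype.ext h
  exact s.e.symm.injective this

theorem ι_mem (x : M) : s.ι x ∈ centralizer ({t} : Set G) := (s.e.symm x).2

theorem exists_ι {g : G} (hg : g ∈ centralizer ({t} : Set G)) : ∃ x : M, s.ι x = g :=
  ⟨s.e ⟨g, hg⟩, by rw [ι_apply, MulEquiv.symm_apply_apply]⟩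

theorem ι_mem_T (x : M) : s.ι x ∈ (T : Subgroup G) ↔ inT0 x := by
  have := s.hT (s.e.symm x)
  rw [MulEquiv.apply_symm_apply] at this
  exact this

theorem exists_ι_of_mem_T {g : G} (hg : g ∈ (T : Subgroup G)) : ∃ x : M, inT0 x ∧ s.ι x = g := by
  obtain ⟨x, hx⟩ := s.exists_ι (s.hTle hg)
  refine ⟨x, ?_, hx⟩
  rw [← s.ι_mem_T, hx]
  exact hg

include s in
theorem t_ne_one : t ≠ 1 := by
  intro h
  have := s.ht
  rw [h, orderOf_one] at this
  omega

include s in
theorem t_mul_t : t * t = 1 := by
  have := pow_orderOf_eq_one t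
  rw [s.ht, pow_two] at this
  exact this

omit s in
theorem t_mem' : t ∈ centralizer ({t} : Set G) := mem_centralizer_singleton_iff.mpr rfl

theorem ι_c : s.ι c = t := by
  have h1 : ∀ y : M, y * s.e ⟨t, t_mem'⟩ = s.e ⟨t, t_mem'⟩ * y := by
    intro y
    obtain ⟨y', rfl⟩ := s.e.surjective y
    rw [← map_mul, ← map_mul]
    congr 1
    apply Subtype.ext
    exact mem_centralizer_singleton_iff.mp y'.2
  rcases center_M _ h1 with h | h
  · exfalso
    apply s.t_ne_one
    have : (⟨t, t_mem'⟩ : ↥(centralizer ({t} : Set G))) = 1 := by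
      apply s.e.injective
      rw [h, map_one]
    exact congrArg Subtype.val this
  · rw [ι_apply, ← h, MulEquiv.symm_apply_apply]

/-- the generator of the commutator subgroup of `T` -/
noncomputable def u : G := s.ι u0

include s in
theorem card_cent_t : Nat.card (centralizer ({t} : Set G)) = 48 := by
  rw [Nat.card_congr s.e.toEquiv, card_M]

theorem T_le_cent_u : (T : Subgroup G) ≤ centralizer ({s.u} : Set G) := by
  intro g hg
  obtain ⟨x, hx, rfl⟩ := s.exists_ι_of_mem_T hg
  rw [mem_centralizer_singleton_iff]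
  show s.ι x * s.ι u0 = s.ι u0 * s.ι x
  rw [← map_mul, ← map_mul, hx]

theorem cent_u : centralizer ({s.u} : Set G) = T := by
  apply le_antisymm _ s.T_le_cent_u
  intro g hg
  rw [← s.h2 T, mem_centralizer_iff]
  intro k hk
  have hle : ⁅(T : Subgroup G), (T : Subgroup G)⁆ ≤ zpowers s.u := by
    rw [commutator_le]
    intro g₁ h₁ g₂ h₂
    obtain ⟨x, hx, rfl⟩ := s.exists_ι_of_mem_T h₁
    obtain ⟨y, hy, rfl⟩ := s.exists_ι_of_mem_T h₂
    rw [commutatorElement_def, ← map_inv, ← map_inv, ← map_mul, ← map_mul, ← map_mul]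
    rcases comm_T0 x y hx hy with h | h
    · rw [h, map_one]; exact one_mem _
    · rw [h]; exact mem_zpowers _
  obtain ⟨n, rfl⟩ := mem_zpowers_iff.mp (hle hk)
  have hc : Commute g s.u := (mem_centralizer_singleton_iff.mp hg)
  exact ((hc.zpow_right n).eq).symm

end Setup

end Cfsg.Agent.Lib.Helper5.Z2S4
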