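import Mathlib
import Cfsg.Agent.Lib.Helper5.Z2S4.Setup

/-!
# Fusion of the central involution
-/

set_option autoImplicit false

namespace Cfsg.Agent.Lib.Helper5.Z2S4

open Subgroup

variable {G : Type*} [Group G]

namespace Setup

variable {t : G} {T : Sylow 2 G} (s : Setup t T)

include s in
theorem card_T : Nat.card (T : Subgroup G) = 16 := by
  rw [← card_T0_sub]
  symm
  let f : T0 → (T : Subgroup G) := fun x => ⟨s.ι x, (s.ι_mem_T x).mpr (mem_T0.mp x.2)⟩
  apply Nat.card_congr (Equiv.ofBijective f ⟨?_, ?_⟩)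
  · intro x y h
    have : s.ι x = s.ι y := congrArg (fun z : (T : Subgroup G) => (z : G)) h
    exact Subtype.ext (s.ι_injective this)
  · intro y
    obtain ⟨x, hx, hxy⟩ := s.exists_ι_of_mem_T y.2
    exact ⟨⟨x, mem_T0.mpr hx⟩, Subtype.ext hxy⟩

theorem card_cent_u : Nat.card (centralizer ({s.u} : Set G)) = 16 := by
  rw [s.cent_u, s.card_T]

theorem u_ne_one : s.u ≠ 1 := by
  intro h
  exact u0_ne_one (s.ι_injective (by rw [map_one]; exact h))

theorem u_eq_comm : s.u = s.ι a0 * s.ι b0 * (s.ι a0)⁻¹ * (s.ι b0)⁻¹ := by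
  show s.ι u0 = _
  rw [← map_inv, ← map_inv, ← map_mul, ← map_mul, ← map_mul, comm_a0_b0]

theorem a_mem_T : s.ι a0 ∈ (T : Subgroup G) := (s.ι_mem_T a0).mpr inT0_a0
theorem b_mem_T : s.ι b0 ∈ (T : Subgroup G) := (s.ι_mem_T b0).mpr inT0_b0

/-- an element normalizing `T` centralizes `u` -/
theorem conj_u_of_normalizes (n : G) (hn : ∀ x ∈ (T : Subgroup G), n * x * n⁻¹ ∈ (T : Subgroup G)) :
    n * s.u * n⁻¹ = s.u := by
  obtain ⟨x, hx, hxa⟩ := s.exists_ι_of_mem_T (hn _ s.a_mem_T)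
  obtain ⟨y, hy, hyb⟩ := s.exists_ι_of_mem_T (hn _ s.b_mem_T)
  have h1 : n * s.u * n⁻¹ = s.ι (x * y * x⁻¹ * y⁻¹) := by
    rw [map_mul, map_mul, map_mul, map_inv, map_inv, hxa, hyb, s.u_eq_comm]
    group
  rcases comm_T0 x y hx hy with h | h
  · exfalso
    rw [h, map_one] at h1
    apply s.u_ne_one
    calc s.u = n⁻¹ * (n * s.u * n⁻¹) * n := by group
      _ = 1 := by rw [h1]; group
  · rw [h1, h]; rfl

include s in
theorem t_mem_centralizer_T : t ∈ centralizer ((T : Subgroup G) : Set G) := by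
  rw [mem_centralizer_iff]
  intro h hh
  exact mem_centralizer_singleton_iff.mp (s.hTle hh)

theorem ι_cu0 : s.ι (c * u0) = t * s.u := by
  rw [map_mul, s.ι_c]; rfl

/-- `t` is not conjugate to `t * u` -/
theorem not_conj_tu [Finite G] (g : G) : g * t * g⁻¹ ≠ s.ι (c * u0) := by
  intro hg
  rw [s.ι_cu0] at hg
  have hy : (g⁻¹)⁻¹ * t * g⁻¹ ∈ centralizer ((T : Subgroup G) : Set G) := by
    rw [inv_inv, hg, mem_centralizer_iff]
    intro h hh
    have h1 : h * t = t * h := mem_centralizer_singleton_iff.mp (s.hTle hh)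
    have h2 : h * s.u = s.u * h := mem_centralizer_singleton_iff.mp (s.T_le_cent_u hh)
    calc h * (t * s.u) = (h * t) * s.u := by group
      _ = t * (h * s.u) := by rw [h1]; group
      _ = t * s.u * h := by rw [h2]; group
  obtain ⟨n, hn, hn2⟩ := Sylow.conj_eq_normalizer_conj_of_mem_centralizer T t g⁻¹
    s.t_mem_centralizer_T hy
  rw [inv_inv, hg] at hn2
  -- `m = n⁻¹` normalizes `T`
  have hm : ∀ x ∈ (T : Subgroup G), n⁻¹ * x * n⁻¹⁻¹ ∈ (T : Subgroup G) := by
    intro x hx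
    have hn' : n⁻¹ ∈ normalizer ((T : Subgroup G) : Set G) := inv_mem hn
    exact (mem_normalizer_iff.mp hn' x).mp hx
  have h3 := s.conj_u_of_normalizes n⁻¹ hm
  have h4 : n⁻¹ ∈ centralizer ({s.u} : Set G) := by
    rw [mem_centralizer_singleton_iff]
    calc n⁻¹ * s.u = (n⁻¹ * s.u * n⁻¹⁻¹) * n⁻¹ := by group
      _ = s.u * n⁻¹ := by rw [h3]
  rw [s.cent_u] at h4
  have h5 : n⁻¹ * t = t * n⁻¹ := mem_centralizer_singleton_iff.mp (s.hTle h4)
  have h6 : t * s.u = t := by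
    rw [hn2]
    calc n⁻¹ * t * n = (n⁻¹ * t) * n := by group
      _ = t := by rw [h5]; group
  apply s.u_ne_one
  calc s.u = t⁻¹ * (t * s.u) := by group
    _ = 1 := by rw [h6]; group

/-- fusion of `t` inside `T` -/
theorem fusion_cases [Finite G] (g : G) (hg : g * t * g⁻¹ ∈ (T : Subgroup G))
    (hne : g * t * g⁻¹ ≠ t) :
    (∃ g' : G, g' * t * g'⁻¹ = s.ι a0) ∨ (∃ g' : G, g' * t * g'⁻¹ = s.ι (c * a0)) := by
  obtain ⟨m, hm, hmeq⟩ := s.exists_ι_of_mem_T hg
  have hmm : m * m = 1 := by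
    apply s.ι_injective
    rw [map_mul, hmeq, map_one]
    calc g * t * g⁻¹ * (g * t * g⁻¹) = g * (t * t) * g⁻¹ := by group
      _ = 1 := by rw [s.t_mul_t]; group
  have hm1 : m ≠ 1 := by
    rintro rfl
    rw [map_one] at hmeq
    apply s.t_ne_one
    calc t = g⁻¹ * (g * t * g⁻¹) * g := by group
      _ = 1 := by rw [← hmeq]; group
  have hmc : m ≠ c := by
    rintro rfl
    rw [s.ι_c] at hmeq
    exact hne hmeq.symm
  have key : ∀ k x : M, k * m * k⁻¹ = x → s.ι k * g * t * (s.ι k * g)⁻¹ = s.ι x := by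
    intro k x hk
    rw [← hk, map_mul, map_mul, map_inv, hmeq]
    group
  rcases invol_types m hm hmm hm1 hmc with ⟨k, hk⟩ | ⟨k, hk⟩ | ⟨k, hk⟩ | ⟨k, hk⟩
  · exfalso
    have h1 := key k u0 hk
    have h2 := card_centralizer_conj (s.ι k * g) t
    have h2' : s.ι k * g * t * (s.ι k * g)⁻¹ = s.u := h1
    rw [h2', s.card_cent_u, s.card_cent_t] at h2
    omega
  · exfalso
    exact s.not_conj_tu _ (key k _ hk)
  · left
    exact ⟨_, key k _ hk⟩
  · right
    exact ⟨_, key k _ hk⟩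

/-- the twisted setup -/
def twisted : Setup t T where
  e := s.e.trans twist
  ht := s.ht
  hTle := s.hTle
  hT := fun x => by
    rw [s.hT]
    exact (twist_inT0 _).symm
  h2 := s.h2

theorem twisted_ι (x : M) : s.twisted.ι x = s.ι (twist x) := rfl

include s in
/-- after twisting, `t` is conjugate to the transposition `a` -/
theorem exists_patA [Finite G] (g : G) (hg : g * t * g⁻¹ ∈ (T : Subgroup G))
    (hne : g * t * g⁻¹ ≠ t) :
    ∃ s' : Setup t T, ∃ g' : G, g' * t * g'⁻¹ = s'.ι a0 := by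
  rcases s.fusion_cases g hg hne with h | ⟨g', hg'⟩
  · exact ⟨s, h⟩
  · refine ⟨s.twisted, g', ?_⟩
    rw [s.twisted_ι, twist_a0]
    exact hg'

end Setup

end Cfsg.Agent.Lib.Helper5.Z2S4
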