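import Mathlib
import Cfsg.Agent.Lib.Helper5.Z2S4.Setup
import Cfsg.Agent.Lib.Helper4.InvAction

/-!
# No nontrivial normal subgroups of odd order
-/

set_option autoImplicit false

namespace Cfsg.Agent.Lib.Helper5.Z2S4

open Subgroup

variable {G : Type*} [Group G]

namespace Setup

variable {t : G} {T : Sylow 2 G} (s : Setup t T)

/-- an involution of a subgroup of odd order does not exist -/
theorem not_odd_of_invol [Finite G] (V : Subgroup G) (hodd : Odd (Nat.card V)) {y : G} (hy : y ∈ V)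
    (hy1 : y ≠ 1) (hy2 : y * y = 1) : False := by
  have h1 : orderOf y = 2 := by
    apply orderOf_eq_prime
    · rw [pow_two]; exact hy2
    · exact hy1
  have h2 : orderOf (⟨y, hy⟩ : V) = 2 := by
    rw [← h1]
    exact (Subgroup.orderOf_mk y hy)
  have h3 : 2 ∣ Nat.card V := by
    rw [← h2]
    exact orderOf_dvd_natCard _
  rcases hodd with ⟨k, hk⟩
  omega

include s in
/-- `t` acts fixed point freely on a normal subgroup of odd order -/
theorem fpf_t [Finite G] (V : Subgroup G) [hV : V.Normal] (hodd : Odd (Nat.card V)) :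
    ∀ v ∈ V, t * v = v * t → v = 1 := by
  intro v hv hc
  by_contra hv1
  have hvC : v ∈ centralizer ({t} : Set G) := mem_centralizer_singleton_iff.mpr hc.symm
  obtain ⟨x, rfl⟩ := s.exists_ι hvC
  have hx1 : x ≠ 1 := by
    rintro rfl
    exact hv1 (map_one _)
  rcases invol_in_normal_closure x hx1 with ⟨n, h1, h2⟩ | ⟨k, h1, h2⟩
  · apply not_odd_of_invol V hodd (y := s.ι (x ^ (n : ℕ)))
    · rw [map_pow]; exact V.pow_mem hv _
    · intro h
      exact h1 (s.ι_injective (by rw [h, map_one]))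
    · rw [← map_mul, h2, map_one]
  · apply not_odd_of_invol V hodd (y := s.ι (x * (k * x * k⁻¹)))
    · rw [map_mul, map_mul, map_mul, map_inv]
      exact V.mul_mem hv (hV.conj_mem _ hv _)
    · intro h
      exact h1 (s.ι_injective (by rw [h, map_one]))
    · rw [← map_mul, h2, map_one]

include s in
/-- conjugates of `u` act fixed point freely on a subgroup of odd order -/
theorem fpf_conj_u [Finite G] (V : Subgroup G) [hV : V.Normal] (hodd : Odd (Nat.card V)) (g : G) :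
    ∀ v ∈ V, g * s.u * g⁻¹ * v = v * (g * s.u * g⁻¹) → v = 1 := by
  intro v hv hc
  have h1 : g⁻¹ * v * g ∈ centralizer ({s.u} : Set G) := by
    rw [mem_centralizer_singleton_iff]
    calc g⁻¹ * v * g * s.u = g⁻¹ * (v * (g * s.u * g⁻¹)) * g := by group
      _ = g⁻¹ * (g * s.u * g⁻¹ * v) * g := by rw [hc]
      _ = s.u * (g⁻¹ * v * g) := by group
  rw [s.cent_u] at h1
  have h2 : g⁻¹ * v * g ∈ V := by
    have := hV.conj_mem v hv g⁻¹
    rwa [inv_inv] at this
  have h3 : g⁻¹ * v * g = 1 := by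
    obtain ⟨k, hk⟩ := (IsPGroup.iff_orderOf.mp T.2) ⟨g⁻¹ * v * g, h1⟩
    have h4 : orderOf (g⁻¹ * v * g) = 2 ^ k := by
      rw [← hk]
      exact (Subgroup.orderOf_mk _ h1).symm
    have h5 : orderOf (g⁻¹ * v * g) ∣ Nat.card V := by
      have : orderOf (⟨g⁻¹ * v * g, h2⟩ : V) ∣ Nat.card V := orderOf_dvd_natCard _
      rwa [Subgroup.orderOf_mk] at this
    rw [h4] at h5
    have h6 : k = 0 := by
      by_contra hk0
      have : 2 ∣ Nat.card V := dvd_trans (dvd_pow_self 2 hk0) h5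
      rcases hodd with ⟨m, hm⟩
      omega
    rw [h6, pow_zero] at h4
    exact orderOf_eq_one_iff.mp h4
  calc v = g * (g⁻¹ * v * g) * g⁻¹ := by group
    _ = 1 := by rw [h3]; group

include s in
/-- a normal subgroup of odd order is trivial -/
theorem odd_normal_eq_bot [Finite G] (V : Subgroup G) [hV : V.Normal] (hodd : Odd (Nat.card V)) :
    V = ⊥ := by
  have hnorm : ∀ x : G, ∀ v ∈ V, x * v * x⁻¹ ∈ V := fun x v hv => hV.conj_mem v hv x
  obtain ⟨k1, hk1⟩ := conj_u0_b0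
  obtain ⟨k2, hk2⟩ := conj_u0_ub0
  have hu : s.u = 1 * s.u * 1⁻¹ := by group
  have hb : s.ι b0 = s.ι k1 * s.u * (s.ι k1)⁻¹ := by
    show _ = s.ι k1 * s.ι u0 * (s.ι k1)⁻¹
    rw [← map_inv, ← map_mul, ← map_mul, hk1]
  have hub : s.ι (u0 * b0) = s.ι k2 * s.u * (s.ι k2)⁻¹ := by
    show _ = s.ι k2 * s.ι u0 * (s.ι k2)⁻¹
    rw [← map_inv, ← map_mul, ← map_mul, hk2]
  have it := Cfsg.Agent.Lib.Helper4.InvAction.inverts_of_fixedPointFree V t s.t_mul_t
    (hnorm t) (s.fpf_t V hodd)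
  have iu := Cfsg.Agent.Lib.Helper4.InvAction.inverts_of_fixedPointFree V s.u
    (by show s.ι u0 * s.ι u0 = 1; rw [← map_mul, u0_mul_u0, map_one])
    (hnorm _) (by have := s.fpf_conj_u V hodd 1; rwa [← hu] at this)
  have ib := Cfsg.Agent.Lib.Helper4.InvAction.inverts_of_fixedPointFree V (s.ι b0)
    (by rw [← map_mul, b0_mul_b0, map_one])
    (hnorm _) (by have := s.fpf_conj_u V hodd (s.ι k1); rwa [← hb] at this)
  rw [Subgroup.eq_bot_iff_forall]
  intro v hv
  have hfub := s.fpf_conj_u V hodd (s.ι k2)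
  rw [← hub] at hfub
  apply hfub v hv
  -- `u * b` centralizes `v`
  have h1 : s.u * v * s.u⁻¹ = v⁻¹ := iu v hv
  have h2 : s.ι b0 * v⁻¹ * (s.ι b0)⁻¹ = v⁻¹⁻¹ := ib v⁻¹ (V.inv_mem hv)
  rw [inv_inv] at h2
  rw [map_mul]
  have h3 : s.ι u0 * s.ι b0 = s.ι b0 * s.ι u0 := by rw [← map_mul, ← map_mul, u0_b0_comm]
  calc s.ι u0 * s.ι b0 * v = s.ι b0 * (s.u * v * s.u⁻¹) * (s.ι b0)⁻¹ * (s.ι b0 * s.ι u0) := by
        rw [h3]; show _ = s.ι b0 * (s.ι u0 * v * (s.ι u0)⁻¹) * (s.ι b0)⁻¹ * (s.ι b0 * s.ι u0); group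
    _ = v * (s.ι u0 * s.ι b0) := by rw [h1, h2, h3]

end Setup

end Cfsg.Agent.Lib.Helper5.Z2S4
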