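import Mathlib
import Cfsg.Agent.Lib.Helper5.Z2S4.Fusion

/-!
# The fusion pattern when `t` is conjugate to a transposition
-/

set_option autoImplicit false

namespace Cfsg.Agent.Lib.Helper5.Z2S4

open Subgroup

variable {G : Type*} [Group G]

namespace Setup

variable {t : G} {T : Sylow 2 G} (s : Setup t T)

theorem ι_comm_t (x : M) : s.ι x * t = t * s.ι x :=
  mem_centralizer_singleton_iff.mp (s.ι_mem x)

/-- normalising the conjugating element -/
theorem exists_good_conj [Finite G] (g : G) (hg : g * t * g⁻¹ = s.ι a0) :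
    ∃ g' : G, ∃ n : M, g' * t * g'⁻¹ = s.ι a0 ∧ g'⁻¹ * t * g' = s.ι n ∧ inT0 n ∧ n * n = 1 ∧
      ∃ y : M, inT0 y ∧ y * n ≠ n * y := by
  have hat : s.ι a0 * t = t * s.ι a0 := s.ι_comm_t a0
  have hyC : g⁻¹ * t * g ∈ centralizer ({t} : Set G) := by
    rw [mem_centralizer_singleton_iff]
    calc g⁻¹ * t * g * t = g⁻¹ * (t * (g * t * g⁻¹)) * g := by group
      _ = g⁻¹ * ((g * t * g⁻¹) * t) * g := by rw [hg, hat]
      _ = t * (g⁻¹ * t * g) := by group
  obtain ⟨my, hmy⟩ := s.exists_ι hyC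
  have hmy2 : my * my = 1 := by
    apply s.ι_injective
    rw [map_mul, hmy, map_one]
    calc g⁻¹ * t * g * (g⁻¹ * t * g) = g⁻¹ * (t * t) * g := by group
      _ = 1 := by rw [s.t_mul_t]; group
  obtain ⟨k, hk⟩ := invol_conj_into_T0 my hmy2
  have hkt : s.ι k * t = t * s.ι k := s.ι_comm_t k
  have hg1 : g * (s.ι k)⁻¹ * t * (g * (s.ι k)⁻¹)⁻¹ = s.ι a0 := by
    rw [← hg]
    calc g * (s.ι k)⁻¹ * t * (g * (s.ι k)⁻¹)⁻¹ = g * ((s.ι k)⁻¹ * (t * s.ι k)) * g⁻¹ := by group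
      _ = g * t * g⁻¹ := by rw [← hkt]; group
  have hg2 : (g * (s.ι k)⁻¹)⁻¹ * t * (g * (s.ι k)⁻¹) = s.ι (k * my * k⁻¹) := by
    rw [map_mul, map_mul, map_inv, hmy]
    group
  have hnn : (k * my * k⁻¹) * (k * my * k⁻¹) = 1 := by
    calc (k * my * k⁻¹) * (k * my * k⁻¹) = k * (my * my) * k⁻¹ := by group
      _ = 1 := by rw [hmy2]; group
  refine ⟨g * (s.ι k)⁻¹, k * my * k⁻¹, hg1, hg2, hk, hnn, ?_⟩
  by_contra hcen
  push Not at hcen
  rcases central_invol_T0 _ hk hnn hcen with h | h | h | h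
  · rw [h, map_one] at hg2
    apply s.t_ne_one
    calc t = (g * (s.ι k)⁻¹) * ((g * (s.ι k)⁻¹)⁻¹ * t * (g * (s.ι k)⁻¹)) * (g * (s.ι k)⁻¹)⁻¹ := by
          group
      _ = 1 := by rw [hg2]; group
  · rw [h, s.ι_c] at hg2
    have h3 : t = s.ι a0 := by
      rw [← hg1]
      calc t = (g * (s.ι k)⁻¹) * ((g * (s.ι k)⁻¹)⁻¹ * t * (g * (s.ι k)⁻¹)) *
            (g * (s.ι k)⁻¹)⁻¹ := by group
        _ = g * (s.ι k)⁻¹ * t * (g * (s.ι k)⁻¹)⁻¹ := by rw [hg2]
    have h3' : s.ι c = s.ι a0 := s.ι_c.trans h3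
    exact a0_ne_c (s.ι_injective h3').symm
  · rw [h] at hg2
    have h2 := card_centralizer_conj (g * (s.ι k)⁻¹)⁻¹ t
    rw [inv_inv, hg2] at h2
    have h2' : Nat.card (centralizer ({s.u} : Set G)) = Nat.card (centralizer ({t} : Set G)) := h2
    rw [s.card_cent_u, s.card_cent_t] at h2'
    omega
  · rw [h] at hg2
    apply s.not_conj_tu (g * (s.ι k)⁻¹)⁻¹
    rw [inv_inv]
    exact hg2

/-- in pattern A the elements `t * a` and `t * a * u` have centralizers of order 16 -/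
theorem card_cent_cau [Finite G] (g : G) (hg : g * t * g⁻¹ = s.ι a0) :
    Nat.card (centralizer ({s.ι (c * a0 * u0)} : Set G)) = 16 ∧
      Nat.card (centralizer ({s.ι (c * a0)} : Set G)) = 16 := by
  obtain ⟨g', n, hg1, hg2, hn, hnn, y0, hy0, hy0n⟩ := s.exists_good_conj g hg
  -- `t` in terms of `n`
  have ht' : t = g' * s.ι n * g'⁻¹ := by
    rw [← hg2]; group
  have hnT : s.ι n ∈ (T : Subgroup G) := (s.ι_mem_T n).mpr hn
  have hun : s.ι n * s.u = s.u * s.ι n := mem_centralizer_singleton_iff.mp (s.T_le_cent_u hnT)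
  have hut : s.u * t = t * s.u := by
    have : s.ι u0 * t = t * s.ι u0 := s.ι_comm_t u0
    exact this
  -- the element `w`
  have hwt : g' * s.u * g'⁻¹ * t = t * (g' * s.u * g'⁻¹) := by
    have key : g' * s.u * g'⁻¹ * (g' * s.ι n * g'⁻¹) = g' * s.ι n * g'⁻¹ * (g' * s.u * g'⁻¹) := by
      calc g' * s.u * g'⁻¹ * (g' * s.ι n * g'⁻¹) = g' * (s.u * s.ι n) * g'⁻¹ := by group
        _ = g' * (s.ι n * s.u) * g'⁻¹ := by rw [hun]
        _ = g' * s.ι n * g'⁻¹ * (g' * s.u * g'⁻¹) := by group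
    rw [← ht'] at key
    exact key
  have hwa : g' * s.u * g'⁻¹ * s.ι a0 = s.ι a0 * (g' * s.u * g'⁻¹) := by
    rw [← hg1]
    calc g' * s.u * g'⁻¹ * (g' * t * g'⁻¹) = g' * (s.u * t) * g'⁻¹ := by group
      _ = g' * (t * s.u) * g'⁻¹ := by rw [hut]
      _ = g' * t * g'⁻¹ * (g' * s.u * g'⁻¹) := by group
  have hwC : g' * s.u * g'⁻¹ ∈ centralizer ({t} : Set G) := mem_centralizer_singleton_iff.mpr hwt
  obtain ⟨x, hx⟩ := s.exists_ι hwC
  have hxa : x * a0 = a0 * x := by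
    apply s.ι_injective
    rw [map_mul, map_mul, hx]
    exact hwa
  have hcw : Nat.card (centralizer ({s.ι x} : Set G)) = 16 := by
    rw [hx, card_centralizer_conj, s.card_cent_u]
  -- conjugates of `T` commute with `a` and `w`
  have hTa : ∀ y ∈ (T : Subgroup G), g' * y * g'⁻¹ * s.ι a0 = s.ι a0 * (g' * y * g'⁻¹) := by
    intro y hy
    have hyt : y * t = t * y := mem_centralizer_singleton_iff.mp (s.hTle hy)
    rw [← hg1]
    calc g' * y * g'⁻¹ * (g' * t * g'⁻¹) = g' * (y * t) * g'⁻¹ := by group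
      _ = g' * (t * y) * g'⁻¹ := by rw [hyt]
      _ = g' * t * g'⁻¹ * (g' * y * g'⁻¹) := by group
  have hTw : ∀ y ∈ (T : Subgroup G), g' * y * g'⁻¹ * s.ι x = s.ι x * (g' * y * g'⁻¹) := by
    intro y hy
    have hyu : y * s.u = s.u * y := mem_centralizer_singleton_iff.mp (s.T_le_cent_u hy)
    rw [hx]
    calc g' * y * g'⁻¹ * (g' * s.u * g'⁻¹) = g' * (y * s.u) * g'⁻¹ := by group
      _ = g' * (s.u * y) * g'⁻¹ := by rw [hyu]
      _ = g' * s.u * g'⁻¹ * (g' * y * g'⁻¹) := by group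
  have haa : s.ι a0 * s.ι a0 = 1 := by rw [← map_mul, a0_mul_a0, map_one]
  rcases cent_a0 x hxa with h | h | h | h | h | h | h | h
  · -- `w = 1`
    exfalso
    rw [h, map_one] at hx
    apply s.u_ne_one
    calc s.u = g'⁻¹ * (g' * s.u * g'⁻¹) * g' := by group
      _ = 1 := by rw [← hx]; group
  · -- `w = t`
    exfalso
    rw [h, s.ι_c, s.card_cent_t] at hcw
    omega
  · -- `w = a`
    exfalso
    rw [h, ← hg1] at hx
    have : t = s.u := by
      calc t = g'⁻¹ * (g' * t * g'⁻¹) * g' := by group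
        _ = g'⁻¹ * (g' * s.u * g'⁻¹) * g' := by rw [hx]
        _ = s.u := by group
    have this' : s.ι c = s.ι u0 := s.ι_c.trans this
    exact u0_ne_c (s.ι_injective this').symm
  · -- `w = t * a`
    exfalso
    have hy0T : s.ι y0 ∈ (T : Subgroup G) := (s.ι_mem_T y0).mpr hy0
    have h1 := hTa _ hy0T
    have h2 := hTw _ hy0T
    rw [h, map_mul, s.ι_c] at h2
    -- the conjugate of `y0` commutes with `t`
    have h3 : g' * s.ι y0 * g'⁻¹ * t = t * (g' * s.ι y0 * g'⁻¹) := by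
      have e1 : t = t * s.ι a0 * s.ι a0 := by rw [mul_assoc, haa, mul_one]
      calc g' * s.ι y0 * g'⁻¹ * t = g' * s.ι y0 * g'⁻¹ * (t * s.ι a0 * s.ι a0) := by rw [← e1]
        _ = (g' * s.ι y0 * g'⁻¹ * (t * s.ι a0)) * s.ι a0 := by group
        _ = t * s.ι a0 * (g' * s.ι y0 * g'⁻¹ * s.ι a0) := by rw [h2]; group
        _ = t * s.ι a0 * (s.ι a0 * (g' * s.ι y0 * g'⁻¹)) := by rw [h1]
        _ = t * (s.ι a0 * s.ι a0) * (g' * s.ι y0 * g'⁻¹) := by group
        _ = t * (g' * s.ι y0 * g'⁻¹) := by rw [haa, mul_one]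
    apply hy0n
    apply s.ι_injective
    rw [map_mul, map_mul]
    have h4 : s.ι n = g'⁻¹ * t * g' := hg2.symm
    rw [h4]
    calc s.ι y0 * (g'⁻¹ * t * g') = g'⁻¹ * (g' * s.ι y0 * g'⁻¹ * t) * g' := by group
      _ = g'⁻¹ * (t * (g' * s.ι y0 * g'⁻¹)) * g' := by rw [h3]
      _ = g'⁻¹ * t * g' * s.ι y0 := by group
  · -- `w = u`
    exfalso
    rw [h] at hx
    have h1 : g' ∈ centralizer ({s.u} : Set G) := by
      rw [mem_centralizer_singleton_iff]
      have hx' : s.u = g' * s.u * g'⁻¹ := hx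
      calc g' * s.u = (g' * s.u * g'⁻¹) * g' := by group
        _ = s.u * g' := by rw [← hx']
    rw [s.cent_u] at h1
    have h2 : g' * t = t * g' := mem_centralizer_singleton_iff.mp (s.hTle h1)
    have h3 : t = s.ι a0 := by
      rw [← hg1]
      calc t = (t * g') * g'⁻¹ := by group
        _ = g' * t * g'⁻¹ := by rw [← h2]
    have h3' : s.ι c = s.ι a0 := s.ι_c.trans h3
    exact a0_ne_c (s.ι_injective h3').symm
  · -- `w = t * u`
    exfalso
    obtain ⟨k', hk'⟩ := noncentral_invol_T0 n hn hnn ⟨y0, hy0, hy0n⟩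
    have h1 : s.u = (g' * s.ι k' * g'⁻¹) * t * (g' * s.ι k' * g'⁻¹)⁻¹ := by
      have e1 : s.u = t * (t * s.u) := by rw [← mul_assoc, s.t_mul_t, one_mul]
      have e2 : t * s.u = g' * s.u * g'⁻¹ := by rw [← hx, h, s.ι_cu0]
      have e3 : s.ι (n * u0) = s.ι k' * s.ι n * (s.ι k')⁻¹ := by
        rw [← hk', map_mul, map_mul, map_inv]
      have e4 : s.ι (n * u0) = s.ι n * s.u := by rw [map_mul]; rfl
      calc s.u = t * (t * s.u) := e1
        _ = g' * s.ι n * g'⁻¹ * (g' * s.u * g'⁻¹) := by rw [e2, ← ht']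
        _ = g' * (s.ι n * s.u) * g'⁻¹ := by group
        _ = g' * (s.ι k' * s.ι n * (s.ι k')⁻¹) * g'⁻¹ := by rw [← e4, e3]
        _ = (g' * s.ι k' * g'⁻¹) * (g' * s.ι n * g'⁻¹) * (g' * s.ι k' * g'⁻¹)⁻¹ := by group
        _ = (g' * s.ι k' * g'⁻¹) * t * (g' * s.ι k' * g'⁻¹)⁻¹ := by rw [← ht']
    have h2 := card_centralizer_conj (g' * s.ι k' * g'⁻¹) t
    rw [← h1, s.card_cent_u, s.card_cent_t] at h2
    omega
  · -- `w = a * u`
    exfalso
    have hnorm : ∀ y ∈ (T : Subgroup G), g' * y * g'⁻¹ ∈ (T : Subgroup G) := by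
      intro y hy
      rw [← s.cent_u, mem_centralizer_singleton_iff]
      have h1 := hTa y hy
      have h2 := hTw y hy
      rw [h, map_mul] at h2
      have e1 : s.u = s.ι a0 * (s.ι a0 * s.ι u0) := by
        rw [← mul_assoc, haa, one_mul]; rfl
      rw [e1]
      calc g' * y * g'⁻¹ * (s.ι a0 * (s.ι a0 * s.ι u0))
          = (g' * y * g'⁻¹ * s.ι a0) * (s.ι a0 * s.ι u0) := by group
        _ = s.ι a0 * ((g' * y * g'⁻¹) * (s.ι a0 * s.ι u0)) := by rw [h1]; group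
        _ = s.ι a0 * (s.ι a0 * s.ι u0 * (g' * y * g'⁻¹)) := by rw [h2]
        _ = s.ι a0 * (s.ι a0 * s.ι u0) * (g' * y * g'⁻¹) := by group
    have h3 := s.conj_u_of_normalizes g' hnorm
    rw [h3] at hx
    have : a0 * u0 = u0 := by
      apply s.ι_injective
      rw [← h]; exact hx
    apply a0_ne_one
    calc a0 = a0 * u0 * u0⁻¹ := by group
      _ = 1 := by rw [this]; group
  · -- the remaining case
    rw [h] at hcw
    refine ⟨hcw, ?_⟩
    have e1 : s.ι (c * a0) = s.ι b0 * s.ι (c * a0 * u0) * (s.ι b0)⁻¹ := by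
      rw [← map_inv, ← map_mul, ← map_mul, conj_b0_cau]
    rw [e1, card_centralizer_conj, hcw]

end Setup

end Cfsg.Agent.Lib.Helper5.Z2S4
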