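import Mathlib
import Cfsg.Agent.Lib.Helper5.Z2S4.PatA
import Cfsg.Agent.S0111

/-!
# The subgroup of index two
-/

set_option autoImplicit false

namespace Cfsg.Agent.Lib.Helper5.Z2S4

open Subgroup

variable {G : Type*} [Group G]

/-- the index two subgroup of the Sylow subgroup of the model used for the transfer -/
def Q0 : Subgroup M where
  carrier := {x | inQ0 x}
  mul_mem' := fun {x y} hx hy => inQ0_mul x y hx hy
  one_mem' := inQ0_one
  inv_mem' := fun {x} hx => inQ0_inv x hx

theorem mem_Q0 {x : M} : x ∈ Q0 ↔ inQ0 x := Iff.rfl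

theorem card_Q0_sub : Nat.card Q0 = 8 := by
  classical
  rw [← card_Q0, ← Fintype.card_subtype, ← Nat.card_eq_fintype_card]
  exact Nat.card_congr (Equiv.subtypeEquivRight (fun x => mem_Q0))

namespace Setup

variable {t : G} {T : Sylow 2 G} (s : Setup t T)

include s in
theorem t_mem_T : t ∈ (T : Subgroup G) := by
  have h := (s.ι_mem_T c).mpr inT0_c
  rwa [s.ι_c] at h

/-- Thompson transfer: a normal subgroup of index two avoiding `t` -/
theorem exists_index_two [Finite G] (g : G) (hg : g * t * g⁻¹ = s.ι a0) :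
    ∃ G0 : Subgroup G, G0.Normal ∧ G0.index = 2 ∧ t ∉ G0 := by
  obtain ⟨hc1, hc2⟩ := s.card_cent_cau g hg
  have hQT : Q0.map s.ι ≤ (T : Subgroup G) := by
    rintro _ ⟨x, hx, rfl⟩
    exact (s.ι_mem_T x).mpr (mem_Q0.mp hx).1
  have hQc : Nat.card (Q0.map s.ι) = 8 := by
    rw [Subgroup.card_map_of_injective s.ι_injective, card_Q0_sub]
  have hQi : (Q0.map s.ι).relIndex (T : Subgroup G) = 2 := by
    have h1 := ((Q0.map s.ι).subgroupOf (T : Subgroup G)).card_mul_index
    have h2 : Nat.card ((Q0.map s.ι).subgroupOf (T : Subgroup G)) = 8 := by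
      rw [Nat.card_congr (Subgroup.subgroupOfEquivOfLe hQT).toEquiv, hQc]
    rw [h2, s.card_T] at h1
    show ((Q0.map s.ι).subgroupOf (T : Subgroup G)).index = 2
    omega
  have htQ : t ∉ Q0.map s.ι := by
    rintro ⟨x, hx, hxt⟩
    have hxt' : s.ι x = s.ι c := hxt.trans s.ι_c.symm
    have := s.ι_injective hxt'
    rw [this] at hx
    exact c_not_inQ0 (mem_Q0.mp hx)
  rcases Cfsg.Agent.S0111.result T (Q0.map s.ι) hQT hQi t s.ht s.t_mem_T htQ with h | ⟨k, x, hx, hxk⟩
  · exact h
  · exfalso
    have hcard : Nat.card (centralizer ({s.ι x} : Set G)) = 48 := by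
      rw [hxk, card_centralizer_conj, s.card_cent_t]
    rcases inQ0_types x (mem_Q0.mp hx) with h | h | ⟨k', hk'⟩ | h | h
    · rw [h, map_one] at hxk
      apply s.t_ne_one
      calc t = k⁻¹ * (k * t * k⁻¹) * k := by group
        _ = 1 := by rw [← hxk]; group
    · apply h
      apply s.ι_injective
      rw [map_mul, hxk, map_one]
      calc k * t * k⁻¹ * (k * t * k⁻¹) = k * (t * t) * k⁻¹ := by group
        _ = 1 := by rw [s.t_mul_t]; group
    · have h1 : s.u = s.ι k' * s.ι x * (s.ι k')⁻¹ := by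
        show s.ι u0 = _
        rw [← hk', map_mul, map_mul, map_inv]
      have h2 := card_centralizer_conj (s.ι k') (s.ι x)
      rw [← h1, s.card_cent_u, hcard] at h2
      omega
    · rw [h, hc2] at hcard
      omega
    · rw [h, hc1] at hcard
      omega

end Setup

end Cfsg.Agent.Lib.Helper5.Z2S4
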