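import Mathlib
import Cfsg.Agent.Lib.Helper5.Z2S4.Transfer
import Cfsg.Agent.Lib.Helper5.Z2S4.OddCore
import Cfsg.Agent.Lib.Helper5.Grp.D8Recog
import Cfsg.Agent.Lib.Lead.PiCore
import Cfsg.Agent.H9.Ord504A
import Cfsg.Agent.S3035

/-!
# The structure of the subgroup of index two
-/

set_option autoImplicit false

namespace Cfsg.Agent.Lib.Helper5.Z2S4

open Subgroup

variable {G : Type*} [Group G]

namespace Setup

variable {t : G} {T : Sylow 2 G} (s : Setup t T)

section

variable (G0 : Subgroup G) [hn : G0.Normal] (hidx : G0.index = 2) (htG0 : t ∉ G0)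

omit hn in
theorem conj_mem_iff_of_normal [G0.Normal] (x y : G) : x * y * x⁻¹ ∈ G0 ↔ y ∈ G0 := by
  constructor
  · intro h
    have := (inferInstance : G0.Normal).conj_mem _ h x⁻¹
    have e : x⁻¹ * (x * y * x⁻¹) * x⁻¹⁻¹ = y := by group
    rwa [e] at this
  · intro h
    exact (inferInstance : G0.Normal).conj_mem _ h x

include hidx in
theorem u_mem_G0 : s.u ∈ G0 := by
  rw [s.u_eq_comm, mul_mem_iff_of_index_two hidx, conj_mem_iff_of_normal G0, inv_mem_iff]

omit hn in
include s hidx htG0 in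
/-- every element of `T` has a translate by `t` in `G0` -/
theorem exists_in_G0 {x : G} (hx : x ∈ (T : Subgroup G)) :
    ∃ x' : G, x' ∈ (T : Subgroup G) ∧ x' ∈ G0 ∧ (x' = x ∨ x' = t * x) := by
  by_cases h : x ∈ G0
  · exact ⟨x, hx, h, Or.inl rfl⟩
  · refine ⟨t * x, mul_mem s.t_mem_T hx, ?_, Or.inr rfl⟩
    rw [mul_mem_iff_of_index_two hidx]
    exact ⟨fun h' => absurd h' htG0, fun h' => absurd h' h⟩

include s hidx htG0 in
theorem card_inf_G0 [Finite G] : Nat.card (G0 ⊓ (T : Subgroup G) : Subgroup G) = 8 := by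
  have h1 := (G0.subgroupOf (T : Subgroup G)).card_mul_index
  have h2 : (G0.subgroupOf (T : Subgroup G)).index = 2 := by
    have hd : G0.relIndex (T : Subgroup G) ∣ 2 := by
      have := Subgroup.relIndex_dvd_index_of_normal G0 (T : Subgroup G)
      rwa [hidx] at this
    have hne : G0.relIndex (T : Subgroup G) ≠ 1 := by
      intro h
      rw [Subgroup.relIndex_eq_one] at h
      exact htG0 (h s.t_mem_T)
    have : G0.relIndex (T : Subgroup G) = 1 ∨ G0.relIndex (T : Subgroup G) = 2 :=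
      (Nat.dvd_prime Nat.prime_two).mp hd
    rcases this with h | h
    · exact absurd h hne
    · exact h
  rw [h2, s.card_T] at h1
  have h3 : Nat.card (G0.subgroupOf (T : Subgroup G)) =
      Nat.card (G0 ⊓ (T : Subgroup G) : Subgroup G) := by
    rw [← Subgroup.inf_subgroupOf_right]
    exact Nat.card_congr (Subgroup.subgroupOfEquivOfLe inf_le_right).toEquiv
  omega

include hidx htG0 in
/-- the centralizer of `u` in `G0` is dihedral of order 8 -/
theorem cent_u_G0_dihedral [Finite G] :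
    Nonempty (↥(centralizer ({(⟨s.u, s.u_mem_G0 G0 hidx⟩ : ↥G0)} : Set ↥G0)) ≃* DihedralGroup 4) := by
  have hmem : ∀ x : ↥G0, x ∈ centralizer ({(⟨s.u, s.u_mem_G0 G0 hidx⟩ : ↥G0)} : Set ↥G0) ↔
      (x : G) ∈ (T : Subgroup G) := by
    intro x
    rw [mem_centralizer_singleton_iff, ← s.cent_u, mem_centralizer_singleton_iff]
    constructor
    · intro h
      exact congrArg Subtype.val h
    · intro h
      exact Subtype.ext h
  have hcard : Nat.card ↥(centralizer ({(⟨s.u, s.u_mem_G0 G0 hidx⟩ : ↥G0)} : Set ↥G0)) = 8 := by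
    rw [← s.card_inf_G0 G0 hidx htG0]
    refine Nat.card_congr ⟨fun x => ⟨x.1.1, ⟨x.1.2, (hmem x.1).mp x.2⟩⟩,
      fun y => ⟨⟨y.1, y.2.1⟩, (hmem _).mpr y.2.2⟩, fun x => rfl, fun y => rfl⟩
  obtain ⟨a', haT, haG, ha⟩ := s.exists_in_G0 G0 hidx htG0 s.a_mem_T
  obtain ⟨b', hbT, hbG, hb⟩ := s.exists_in_G0 G0 hidx htG0 s.b_mem_T
  have hta : s.ι a0 * t = t * s.ι a0 := s.ι_comm_t a0
  have htb : s.ι b0 * t = t * s.ι b0 := s.ι_comm_t b0
  have hab : s.ι a0 * s.ι b0 ≠ s.ι b0 * s.ι a0 := by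
    intro h
    apply a0_b0_ne
    apply s.ι_injective
    rw [map_mul, map_mul, h]
  have hbb : s.ι b0 * s.ι b0 = 1 := by rw [← map_mul, b0_mul_b0, map_one]
  have hb'b' : b' * b' = 1 := by
    rcases hb with rfl | rfl
    · exact hbb
    · calc t * s.ι b0 * (t * s.ι b0) = t * (s.ι b0 * t) * s.ι b0 := by group
        _ = t * t * (s.ι b0 * s.ι b0) := by rw [htb]; group
        _ = 1 := by rw [s.t_mul_t, hbb, one_mul]
  have hne : a' * b' ≠ b' * a' := by
    intro h
    apply hab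
    rcases ha with rfl | rfl <;> rcases hb with rfl | rfl
    · exact h
    · have e1 : s.ι a0 * (t * s.ι b0) = t * (s.ι a0 * s.ι b0) := by
        rw [← mul_assoc, hta, mul_assoc]
      have e2 : t * s.ι b0 * s.ι a0 = t * (s.ι b0 * s.ι a0) := by rw [mul_assoc]
      rw [e1, e2] at h
      exact mul_left_cancel h
    · have e1 : t * s.ι a0 * s.ι b0 = t * (s.ι a0 * s.ι b0) := by rw [mul_assoc]
      have e2 : s.ι b0 * (t * s.ι a0) = t * (s.ι b0 * s.ι a0) := by
        rw [← mul_assoc, htb, mul_assoc]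
      rw [e1, e2] at h
      exact mul_left_cancel h
    · have e1 : t * s.ι a0 * (t * s.ι b0) = t * t * (s.ι a0 * s.ι b0) := by
        calc t * s.ι a0 * (t * s.ι b0) = t * (s.ι a0 * t) * s.ι b0 := by group
          _ = t * t * (s.ι a0 * s.ι b0) := by rw [hta]; group
      have e2 : t * s.ι b0 * (t * s.ι a0) = t * t * (s.ι b0 * s.ι a0) := by
        calc t * s.ι b0 * (t * s.ι a0) = t * (s.ι b0 * t) * s.ι a0 := by group
          _ = t * t * (s.ι b0 * s.ι a0) := by rw [htb]; group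
      rw [e1, e2] at h
      exact mul_left_cancel h
  obtain ⟨d⟩ := Cfsg.Agent.Lib.Helper5.D8R.dihedral_of_card_eight hcard
    ⟨⟨b', hbG⟩, (hmem _).mpr hbT⟩ ⟨⟨a', haG⟩, (hmem _).mpr haT⟩
    (Subtype.ext (Subtype.ext hb'b'))
    (by
      intro h
      apply hne
      have h1 := congrArg (fun z : ↥(centralizer ({(⟨s.u, s.u_mem_G0 G0 hidx⟩ : ↥G0)} : Set ↥G0)) =>
        ((z : ↥G0) : G)) h
      exact h1)
  exact ⟨d.symm⟩

include s in
omit hn in
theorem conj_tr (g : G) (hg : g * t * g⁻¹ = s.ι a0) (i : Fin 6) :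
    ∃ k : G, k * t * k⁻¹ = s.ι (tr i) := by
  obtain ⟨m, hm⟩ := tr_conj i
  refine ⟨s.ι m * g, ?_⟩
  rw [← hm, map_mul, map_mul, map_inv, ← hg]
  group

include hidx htG0 in
/-- the structure of the group given the subgroup of index two -/
theorem main_of_index_two [Finite G] (g : G) (hg : g * t * g⁻¹ = s.ι a0)
    (hA6 : ↥G0 ≃* ↥(alternatingGroup (Fin 6)) → Nonempty (G ≃* Equiv.Perm (Fin 6))) :
    centralizer ({t} : Set G) = ⊤ ∨ Nonempty (G ≃* Equiv.Perm (Fin 6)) := by
  have hu2 : orderOf (⟨s.u, s.u_mem_G0 G0 hidx⟩ : ↥G0) = 2 := by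
    apply orderOf_eq_prime
    · apply Subtype.ext
      show s.u ^ 2 = 1
      rw [pow_two]
      show s.ι u0 * s.ι u0 = 1
      rw [← map_mul, u0_mul_u0, map_one]
    · intro h
      exact s.u_ne_one (congrArg Subtype.val h)
  have hcardG : Nat.card G = 2 * Nat.card ↥G0 := by
    have := G0.card_mul_index
    rw [hidx] at this
    omega
  have hconj := Cfsg.Agent.H9.Ord504.card_centralizer_mul_card_conj t
  rw [s.card_cent_t] at hconj
  obtain ⟨d⟩ := s.cent_u_G0_dihedral G0 hidx htG0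
  rcases Cfsg.Agent.S3035.result _ hu2 ⟨d⟩ with h | ⟨⟨f⟩⟩ | ⟨⟨f⟩⟩ | ⟨⟨f⟩⟩ | ⟨⟨f⟩⟩
  · -- two-nilpotent case
    exfalso
    have hch : (Cfsg.oddCore ↥G0).Characteristic :=
      Cfsg.Agent.Lib.Lead.PiCore.pPrimeCore_characteristic Nat.prime_two
    have hOc : (Nat.card ↥(Cfsg.oddCore ↥G0)).Coprime 2 :=
      Cfsg.Agent.Lib.Lead.PiCore.pPrimeCore_coprime Nat.prime_two
    have hodd : Odd (Nat.card ↥((Cfsg.oddCore ↥G0).map G0.subtype)) := by
      rw [Subgroup.card_map_of_injective G0.subtype_injective]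
      exact hOc.odd_of_right
    have hbot := s.odd_normal_eq_bot ((Cfsg.oddCore ↥G0).map G0.subtype) hodd
    rw [Subgroup.map_eq_bot_iff_of_injective _ G0.subtype_injective] at hbot
    rw [hbot, sup_bot_eq] at h
    have h8 : Nat.card ↥G0 = 8 := by
      rw [← Subgroup.card_top (G := ↥G0), ← h, Nat.card_congr d.toEquiv, DihedralGroup.nat_card]
    omega
  · -- `S₄`
    left
    have h24 : Nat.card ↥G0 = 24 := by
      rw [Nat.card_congr f.toEquiv, Nat.card_perm, Nat.card_fin]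
      rfl
    apply Subgroup.eq_top_of_card_eq
    rw [s.card_cent_t, hcardG, h24]
  · -- `S₅`
    exfalso
    have h120 : Nat.card ↥G0 = 120 := by
      rw [Nat.card_congr f.toEquiv, Nat.card_perm, Nat.card_fin]
      rfl
    have h5 : Nat.card {x : G // ∃ k : G, k * t * k⁻¹ = x} = 5 := by omega
    let F : Fin 6 → {x : G // ∃ k : G, k * t * k⁻¹ = x} :=
      fun i => ⟨s.ι (tr i), s.conj_tr g hg i⟩
    have hF : Function.Injective F := by
      intro i j hij
      have : s.ι (tr i) = s.ι (tr j) :=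
        congrArg (fun z : {x : G // ∃ k : G, k * t * k⁻¹ = x} => (z : G)) hij
      exact tr_injective (s.ι_injective this)
    have := Nat.card_le_card_of_injective F hF
    rw [Nat.card_fin, h5] at this
    omega
  · -- `SL₃(2)`
    exfalso
    have h168 : Nat.card ↥G0 = 168 := by
      rw [Nat.card_congr f.toEquiv, card_sl32]
    have h7 : Nat.card {x : G // ∃ k : G, k * t * k⁻¹ = x} = 7 := by omega
    have hex : ∀ i : Fin 7, ∃ k : G, k * t * k⁻¹ = s.ι (tr7 i) := by
      intro i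
      rcases tr7_conj i with h | ⟨m, hm⟩
      · refine ⟨1, ?_⟩
        rw [h, s.ι_c]
        group
      · refine ⟨s.ι m * g, ?_⟩
        rw [← hm, map_mul, map_mul, map_inv, ← hg]
        group
    let F : Fin 7 → {x : G // ∃ k : G, k * t * k⁻¹ = x} := fun i => ⟨s.ι (tr7 i), hex i⟩
    have hF : Function.Injective F := by
      intro i j hij
      have : s.ι (tr7 i) = s.ι (tr7 j) :=
        congrArg (fun z : {x : G // ∃ k : G, k * t * k⁻¹ = x} => (z : G)) hij
      exact tr7_injective (s.ι_injective this)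
    have hbij := hF.bijective_of_nat_card_le (by rw [Nat.card_fin, h7])
    -- all conjugates of `t` commute with `t`
    have hcomm : ∀ k : G, k * t * k⁻¹ * t = t * (k * t * k⁻¹) := by
      intro k
      obtain ⟨i, hi⟩ := hbij.2 ⟨k * t * k⁻¹, k, rfl⟩
      have : s.ι (tr7 i) = k * t * k⁻¹ := congrArg Subtype.val hi
      rw [← this]
      exact s.ι_comm_t _
    obtain ⟨k3, hk3⟩ := s.conj_tr g hg 3
    apply tr_noncomm
    apply s.ι_injective
    rw [map_mul, map_mul, tr_zero, ← hg, ← hk3]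
    have := hcomm (g⁻¹ * k3)
    calc g * t * g⁻¹ * (k3 * t * k3⁻¹) = g * (t * ((g⁻¹ * k3) * t * (g⁻¹ * k3)⁻¹)) * g⁻¹ := by group
      _ = g * (((g⁻¹ * k3) * t * (g⁻¹ * k3)⁻¹) * t) * g⁻¹ := by rw [this]
      _ = k3 * t * k3⁻¹ * (g * t * g⁻¹) := by group
  · -- `A₆`
    right
    exact hA6 f

end

end Setup

end Cfsg.Agent.Lib.Helper5.Z2S4
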