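import Mathlib
import Cfsg.Agent.Lib.Helper5.Z2S4.Index2
import Cfsg.Agent.S0215

/-!
# Groups with a 2-central involution whose centralizer is `Z₂ × S₄`: the main theorem
-/

set_option autoImplicit false

namespace Cfsg.Agent.Lib.Helper5.Z2S4

open Subgroup
open scoped Pointwise

variable {G : Type*} [Group G]

/-- the normalised setup exists -/
theorem exists_setup [Finite G] {t : G} (ht : orderOf t = 2) (T : Sylow 2 G)
    (htc : ∀ x ∈ (T : Subgroup G), x * t = t * x)
    (e : ↥(centralizer ({t} : Set G)) ≃* M)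
    (h2 : ∀ S : Sylow 2 G,
      centralizer ((⁅(S : Subgroup G), (S : Subgroup G)⁆ : Subgroup G) : Set G) = S) :
    Nonempty (Setup t T) := by
  haveI : Fact (Nat.Prime 2) := ⟨Nat.prime_two⟩
  have hTle : (T : Subgroup G) ≤ centralizer ({t} : Set G) :=
    fun x hx => mem_centralizer_singleton_iff.mpr (htc x hx)
  have hcC : Nat.card (centralizer ({t} : Set G)) = 48 := by
    rw [Nat.card_congr e.toEquiv, card_M]
  have hcT : Nat.card (T : Subgroup G) = 16 := by
    have h16 : 2 ^ 4 ∣ Nat.card (T : Subgroup G) := by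
      apply T.pow_dvd_card_of_pow_dvd_card
      have := Subgroup.card_subgroup_dvd_card (centralizer ({t} : Set G))
      rw [hcC] at this
      exact dvd_trans (by norm_num) this
    have hd : Nat.card (T : Subgroup G) ∣ 48 := by
      rw [← hcC]; exact Subgroup.card_dvd_of_le hTle
    obtain ⟨n, hn⟩ := IsPGroup.iff_card.mp T.2
    rw [hn] at h16 hd ⊢
    have hn5 : n < 6 := by
      by_contra h
      push Not at h
      have h1 : 2 ^ 6 ≤ 2 ^ n := Nat.pow_le_pow_right (by norm_num) h
      have h2 := Nat.le_of_dvd (by norm_num) hd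
      omega
    interval_cases n <;> omega
  -- Sylow subgroups of the model
  obtain ⟨P1, hP1def⟩ : ∃ P1 : Subgroup M,
      P1 = ((T : Subgroup G).subgroupOf (centralizer ({t} : Set G))).map e.toMonoidHom := ⟨_, rfl⟩
  have hP1 : Nat.card P1 = 16 := by
    rw [hP1def, Subgroup.card_map_of_injective e.injective,
      Nat.card_congr (Subgroup.subgroupOfEquivOfLe hTle).toEquiv, hcT]
  have hfac : (Nat.card M).factorization 2 = 4 := by
    rw [card_M]
    decide +kernel
  obtain ⟨m, hm⟩ := MulAction.exists_smul_eq M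
    (Sylow.ofCard P1 (by rw [hP1, hfac]; norm_num) : Sylow 2 M)
    (Sylow.ofCard T0 (by rw [card_T0_sub, hfac]; norm_num) : Sylow 2 M)
  have hm1 : MulAut.conj m • P1 = T0 := by
    have := congrArg (fun S : Sylow 2 M => (S : Subgroup M)) hm
    exact this
  have hm' : ∀ x : M, x ∈ P1 ↔ m * x * m⁻¹ ∈ T0 := by
    intro x
    rw [← hm1]
    constructor
    · intro hx
      have := Subgroup.smul_mem_pointwise_smul x (MulAut.conj m) P1 hx
      rwa [MulAut.smul_def, MulAut.conj_apply] at this
    · intro hx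
      rw [Subgroup.mem_smul_pointwise_iff_exists] at hx
      obtain ⟨y, hy, hyx⟩ := hx
      rw [MulAut.smul_def, MulAut.conj_apply] at hyx
      have : y = x := mul_left_cancel (mul_right_cancel hyx)
      rwa [← this]
  refine ⟨{ e := e.trans (MulAut.conj m), ht := ht, hTle := hTle, hT := ?_, h2 := h2 }⟩
  intro x
  show (x : G) ∈ (T : Subgroup G) ↔ inT0 (m * e x * m⁻¹)
  rw [← mem_T0, ← hm', hP1def]
  constructor
  · intro hx
    exact ⟨x, mem_subgroupOf.mpr hx, rfl⟩
  · rintro ⟨y, hy, hyx⟩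
    have : y = x := e.injective hyx
    rw [← this]
    exact mem_subgroupOf.mp hy

/-- the main theorem, up to the recognition of `S₆` -/
theorem main [Finite G] {t : G} (ht : orderOf t = 2) (T : Sylow 2 G)
    (htc : ∀ x ∈ (T : Subgroup G), x * t = t * x)
    (e : ↥(centralizer ({t} : Set G)) ≃* M)
    (h2 : ∀ S : Sylow 2 G,
      centralizer ((⁅(S : Subgroup G), (S : Subgroup G)⁆ : Subgroup G) : Set G) = S)
    (hA6 : ∀ (N : Subgroup G) [N.Normal], N.index = 2 → t ∉ N →
      (↥N ≃* ↥(alternatingGroup (Fin 6))) → Nonempty (G ≃* Equiv.Perm (Fin 6))) :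
    centralizer ({t} : Set G) = ⊤ ∨ Nonempty (G ≃* Equiv.Perm (Fin 6)) := by
  obtain ⟨s⟩ := exists_setup ht T htc e h2
  by_cases hiso : ∀ g : G, g * t * g⁻¹ ∈ T → g * t * g⁻¹ = t
  · left
    obtain ⟨N, hN, hodd, hcomm⟩ := Cfsg.Agent.S0215.result T t ht s.t_mem_T hiso
    have hbot := s.odd_normal_eq_bot N hodd
    rw [eq_top_iff]
    intro g _
    have h1 := hcomm g
    rw [hbot, Subgroup.mem_bot] at h1
    rw [mem_centralizer_singleton_iff]
    calc g * t = (t * g * t⁻¹ * g⁻¹)⁻¹ * (t * g) := by group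
      _ = t * g := by rw [h1]; group
  · push Not at hiso
    obtain ⟨g, hgT, hgne⟩ := hiso
    obtain ⟨s', g', hg'⟩ := s.exists_patA g hgT hgne
    obtain ⟨G0, hn, hidx, htG0⟩ := s'.exists_index_two g' hg'
    exact s'.main_of_index_two G0 hidx htG0 g' hg' (hA6 G0 hidx htG0)

end Cfsg.Agent.Lib.Helper5.Z2S4
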